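import Mathlib
import Groth.Agent.Lib.Lead.EZ.SectRestr
import Groth.Agent.Lib.Lead.EZ.ProjStmts
import Groth.Agent.Lib.Lead.RSp.TypeA
import Groth.Agent.Lib.Lead.RSp.LocBasis

/-! # Sections of `Γ_Z F`: the sections of `F` vanishing on every object which maps to `U`. -/

set_option autoImplicit false
universe u
open CategoryTheory Limits Opposite

namespace Groth.Agent.LD.HZF
open ModSite Groth.Agent.LD.MS Groth.Agent.LD.SC Groth.Agent.LD.AbPull Groth.Agent.LD.EZ
  Groth.Agent.LD.RSp Groth.Agent.LD.RSp.TA

variable {C : Type u} [SmallCategory C] {J : GrothendieckTopology C}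
  (O : Sheaf J CommRingCat.{u}) (U : C)

/-- extension by zero (explicit model) from a slice `C/X` of a module whose sections vanish over
the objects mapping to `U` is null on `U`. -/
lemma isNullOn_jS_of_subsingleton {X : C} (T' : Mod (O.over X))
    (hT' : ∀ (W : C) (_ : W ⟶ U) (φ : W ⟶ X), Subsingleton (T'.val.obj (op (Over.mk φ)))) :
    IsNullOn O U ((jS O X).obj T') := by
  have hz : IsZero ((jresP O U).obj ((ezP O X).obj ((incl (O.over X)).obj T'))) := by
    rw [IsZero.iff_id_eq_zero]
    apply (PresheafOfModules.toPresheaf _).map_injective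
    ext Y m
    haveI : Subsingleton (EZ X ((incl (O.over X)).obj T').presheaf Y.unop.left) := by
      refine ⟨fun x y => DFinsupp.ext (fun φ => ?_)⟩
      have hs : Subsingleton (T'.val.obj (op (Over.mk φ))) := hT' _ Y.unop.hom φ
      exact hs.elim _ _
    exact Subsingleton.elim (α := EZ X ((incl (O.over X)).obj T').presheaf Y.unop.left) _ _
  haveI : (shf (O.over U)).Additive := ModSite.additive_shPre (O.over U)
  have hz2 : IsZero ((shf (O.over U)).obj
      ((jresP O U).obj ((ezP O X).obj ((incl (O.over X)).obj T')))) :=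
    Functor.map_isZero (shf (O.over U)) hz
  exact hz2.of_iso ((restrShfIso O U).app ((ezP O X).obj ((incl (O.over X)).obj T'))).symm

/-- the same for the prelude's extension by zero. -/
lemma isNullOn_extZero_of_subsingleton {X : C} (T' : Mod (O.over X))
    (hT' : ∀ (W : C) (_ : W ⟶ U) (φ : W ⟶ X), Subsingleton (T'.val.obj (op (Over.mk φ)))) :
    IsNullOn O U ((extZero O X).obj T') := by
  have h := isNullOn_jS_of_subsingleton O U T' hT'
  unfold IsNullOn at h ⊢
  exact h.of_iso ((restr O U).mapIso ((extZeroIso O X).app T'))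

/-- a morphism `f : Y ⟶ (id : V ⟶ V)` of the slice has `f.left = Y.hom`. -/
lemma left_eq_hom {V : C} (Y : Over V) (f : Y ⟶ Over.mk (𝟙 V)) : f.left = Y.hom := by
  have h := Over.w f
  simpa using h

/-- **key lemma**: if a section `x` of `F` over `V` vanishes on all objects over `V` which map to
`U`, then the classifying map `j_{V!}O_V ⟶ F` restricts to zero on `C/U`. -/
theorem restr_map_ofSec_eq_zero (F : Mod O) (V : C) (x : F.val.obj (op V))
    (hx : ∀ (W : C) (g : W ⟶ V), Nonempty (W ⟶ U) → rs F g x = 0) :
    (restr O U).map (ofSec O F x) = 0 := by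
  let adj := extZeroAdj O V
  let xt : unit (O.over V) ⟶ (restr O V).obj F := adj.homEquiv _ _ (ofSec O F x)
  have hsec : ∀ (Y : Over V),
      xt.val.app (op Y) (1 : (ringSh (O.over V)).obj.obj (op Y)) = rs F Y.hom x := by
    intro Y
    have h0 : freeOnEquiv O V F (ofSec O F x) = x := Equiv.apply_symm_apply _ _
    have h1 := PresheafOfModules.sections_property
      (((restr O V).obj F).unitHomEquiv xt) ((Over.mkIdTerminal (X := V)).from Y).op
    have h2 : ((Over.mkIdTerminal (X := V)).from Y).left = Y.hom := left_eq_hom Y _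
    have h3 : rs F ((Over.mkIdTerminal (X := V)).from Y).left
        (freeOnEquiv O V F (ofSec O F x)) =
        xt.val.app (op Y) (1 : (ringSh (O.over V)).obj.obj (op Y)) := h1
    rw [← h3, h2, h0]
  let T' : Mod (O.over V) := Abelian.image xt
  let e : unit (O.over V) ⟶ T' := Abelian.factorThruImage xt
  let m : T' ⟶ (restr O V).obj F := Abelian.image.ι xt
  have hem : e ≫ m = xt := Abelian.image.fac xt
  haveI : Epi e := inferInstanceAs (Epi (Abelian.factorThruImage xt))
  haveI : Mono m := inferInstanceAs (Mono (Abelian.image.ι xt))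
  have hT' : ∀ (W : C) (_ : W ⟶ U) (φ : W ⟶ V),
      Subsingleton (T'.val.obj (op (Over.mk φ))) := by
    intro W t φ
    have h0 : ∀ y : T'.val.obj (op (Over.mk φ)), y = 0 := by
      intro y
      obtain ⟨S, hS, hS'⟩ := exists_sieve_of_epi e (Over.mk φ) y
      apply eq_of_eqSieve_mem T'
      refine (J.over V).superset_covering ?_ hS
      intro Y' g hg
      obtain ⟨r, hr⟩ := hS' g hg
      show rs T' g y = rs T' g 0
      rw [rs_zero]
      apply injective_of_mono m Y'
      rw [map_zero, ← hr]
      have h1 : m.val.app (op Y') (e.val.app (op Y') r) = xt.val.app (op Y') r :=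
        congrArg (fun ψ : unit (O.over V) ⟶ (restr O V).obj F => ψ.val.app (op Y') r) hem
      rw [h1]
      let r' : (ringSh (O.over V)).obj.obj (op Y') := r
      have h2 : xt.val.app (op Y') r =
          r' • xt.val.app (op Y') (1 : (ringSh (O.over V)).obj.obj (op Y')) := by
        rw [← map_smul]
        congr 1
        exact (mul_one r').symm
      have hx1 : xt.val.app (op Y') (1 : (ringSh (O.over V)).obj.obj (op Y')) = 0 :=
        (hsec Y').trans (hx Y'.left Y'.hom ⟨g.left ≫ t⟩)
      rw [h2, hx1, smul_zero]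
    exact ⟨fun y y' => (h0 y).trans (h0 y').symm⟩
  have hnull : IsNullOn O U ((extZero O V).obj T') :=
    isNullOn_extZero_of_subsingleton O U T' hT'
  have hfac : ofSec O F x = (extZero O V).map e ≫ (adj.homEquiv _ _).symm m := by
    rw [← adj.homEquiv_naturality_left_symm, hem]
    exact ((adj.homEquiv _ _).symm_apply_apply _).symm
  rw [hfac, Functor.map_comp]
  have hz : (restr O U).map ((extZero O V).map e) = 0 := IsZero.eq_of_tgt hnull _ _
  rw [hz, zero_comp]

variable [HasPushOver O U]

/-- sections of `Γ_Z F` vanish on the objects mapping to `U`. -/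
theorem rs_iota_eq_zero (F : Mod O) {V W : C} (g : W ⟶ V) (t : W ⟶ U)
    (y : ((sectOn O U).obj F).val.obj (op V)) :
    rs F g ((iotaU O U F).val.app (op V) y) = 0 := by
  rw [← app_rs]
  have h : rs ((sectOn O U).obj F) g y = 0 :=
    (ExtSupp.isNullOn_iff O U _).1 (isNullOn_sectOn O U F) t _
  rw [h, map_zero]

/-- a section of `F` vanishing on the objects mapping to `U` is a section of `Γ_Z F`. -/
theorem exists_iota_eq (F : Mod O) (V : C) (x : F.val.obj (op V))
    (hx : ∀ (W : C) (g : W ⟶ V), Nonempty (W ⟶ U) → rs F g x = 0) :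
    ∃ y : ((sectOn O U).obj F).val.obj (op V), (iotaU O U F).val.app (op V) y = x := by
  have h0 := restr_map_ofSec_eq_zero O U F V x hx
  have h1 : ofSec O F x ≫ etaU O U F = 0 := (comp_unit_eq_zero_iff O U _).2 h0
  refine ⟨freeOnEquiv O V _ (toSect O U (ofSec O F x) h1), ?_⟩
  rw [← freeOnEquiv_comp, toSect_iotaU]
  exact Equiv.apply_symm_apply _ _

end Groth.Agent.LD.HZF
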