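import Mathlib
import Groth.Prelude.Def_ModSite2
import Groth.Agent.Lib.Helper2.Cartan4
import Groth.Agent.Lib.Lead.SC.TotAcyc
import Groth.Agent.Lib.Lead.EZ.QuotZ

/-! # Totally acyclic abelian sheaves: `Ext^q(ℤ/ℤ_K, A) = 0` for `q ≥ 1`, and extension of
compatible families of sections along a sieve. -/

set_option autoImplicit false
universe u
open CategoryTheory Limits Opposite Abelian

namespace Groth.Agent.LD.HZF
open Groth.Agent.H2.Cartan Groth.Agent.H2.AcycRes Groth.Agent.LD.CE Groth.Agent.LD.EZ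

variable {C : Type u} [SmallCategory C] {J : GrothendieckTopology C}

/-- **cohomology with supports of a totally acyclic sheaf vanishes in positive degrees.** -/
theorem subsingleton_ext_quotZ (A : Sheaf J AddCommGrpCat.{u}) (hA : CohCx.IsTotallyAcyclic A)
    (K : Sheaf J (Type u)) (q : ℕ) :
    Subsingleton (Ext.{u} (ToposFin.quotZ K) A (q + 1)) := by
  let p : K ⟶ ⊤_ (Sheaf J (Type u)) := terminal.from K
  let e : K ⟶ Sheaf.image p := Sheaf.toImage p
  let i : Sheaf.image p ⟶ ⊤_ (Sheaf J (Type u)) := Sheaf.imageι p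
  have hp : e ≫ i = p := Sheaf.toImage_ι p
  haveI : Mono i := inferInstanceAs (Mono (Sheaf.imageι p))
  haveI : Epi e := inferInstanceAs (Epi (Sheaf.toImage p))
  haveI : Mono ((ZZ (J := J)).map i) := ZZ_map_mono i
  have adj : ZZ (J := J) ⊣ sheafCompose J (forget AddCommGrpCat.{u}) :=
    Sheaf.adjunction J AddCommGrpCat.adj
  haveI : (ZZ (J := J)).IsLeftAdjoint := adj.isLeftAdjoint
  haveI : Epi ((ZZ (J := J)).map e) := inferInstance
  let S : ShortComplex (Sheaf J AddCommGrpCat.{u}) :=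
    ShortComplex.mk ((ZZ (J := J)).map i) (cokernel.π ((ZZ (J := J)).map i))
      (cokernel.condition _)
  have hS : S.ShortExact :=
    { exact := ShortComplex.exact_of_g_is_cokernel _ (cokernelIsCokernel _)
      mono_f := inferInstanceAs (Mono ((ZZ (J := J)).map i))
      epi_g := inferInstanceAs (Epi (cokernel.π ((ZZ (J := J)).map i))) }
  have hfac0 : (ZZ (J := J)).map e ≫ (ZZ (J := J)).map i = (ZZ (J := J)).map p := by
    rw [← Functor.map_comp, hp]
  have hfac : (ToposFin.freeAb J).map (terminal.from K) =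
      (ZZ (J := J)).map e ≫ (ZZ (J := J)).map i := hfac0.symm
  let iso : ToposFin.quotZ K ≅ S.X₃ :=
    cokernelIsoOfEq hfac ≪≫ cokernelEpiComp ((ZZ (J := J)).map e) ((ZZ (J := J)).map i)
  have h3 : ∀ (n : ℕ) (x : Ext.{u} S.X₃ A (n + 1)), x = 0 := by
    intro n x
    have hT : Subsingleton (Ext.{u} S.X₂ A (n + 1)) := acyc_of_totallyAcyclic A hA _ n
    have h1 : (Ext.mk₀ S.g).comp x (zero_add (n + 1)) = 0 := Subsingleton.elim _ _
    obtain ⟨x₁, hx₁⟩ := Ext.contravariant_sequence_exact₃ hS A x h1 (add_comm 1 n)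
    rw [← hx₁]
    cases n with
    | zero =>
      obtain ⟨s, rfl⟩ := (Ext.mk₀_bijective _ _).2 x₁
      obtain ⟨φ, hφ⟩ := exists_extension_of_mono A hA i s
      have h4 : Ext.mk₀ s = (Ext.mk₀ S.f).comp (Ext.mk₀ φ) (zero_add 0) := by
        rw [Ext.mk₀_comp_mk₀]
        exact congrArg Ext.mk₀ hφ.symm
      rw [h4]
      exact hS.extClass_comp_assoc (Ext.mk₀ φ)
    | succ n' =>
      have hI : Subsingleton (Ext.{u} S.X₁ A (n' + 1)) := acyc_of_totallyAcyclic A hA _ n'
      rw [Subsingleton.elim x₁ 0, Ext.comp_zero]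
  have : Subsingleton (Ext.{u} S.X₃ A (q + 1)) := ⟨fun a b => (h3 q a).trans (h3 q b).symm⟩
  exact Groth.Agent.LD.SC.subsingleton_ext_of_iso_left iso.symm (q + 1) this

/-- a compatible family of sections of a totally acyclic sheaf along a sieve extends to a
section over the whole object. -/
theorem exists_section_of_family (A : Sheaf J AddCommGrpCat.{u}) (hA : CohCx.IsTotallyAcyclic A)
    (V : C) (S : Sieve V) (m : ∀ ⦃W : C⦄ (h : W ⟶ V), S h → A.obj.obj (op W))
    (hm : ∀ ⦃W W' : C⦄ (h : W ⟶ V) (hh : S h) (k : W' ⟶ W),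
      A.obj.map k.op (m h hh) = m (k ≫ h) (S.downward_closed hh k)) :
    ∃ a : A.obj.obj (op V), ∀ ⦃W : C⦄ (h : W ⟶ V) (hh : S h), A.obj.map h.op a = m h hh := by
  let σ : S.functor ⟶ A.obj ⋙ forget AddCommGrpCat.{u} :=
    { app := fun W => TypeCat.ofHom (fun h => m h.1 h.2)
      naturality := by
        intro W W' k
        ext h
        exact (hm h.1 h.2 k.unop).symm }
  let K₁ : Sheaf J (Type u) := (presheafToSheaf J (Type u)).obj S.functor
  let K₂ : Sheaf J (Type u) := (presheafToSheaf J (Type u)).obj (yoneda.obj V)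
  let ι : K₁ ⟶ K₂ := (presheafToSheaf J (Type u)).map S.functorInclusion
  haveI : Mono ι := by
    have h4 : PreservesFiniteLimits (presheafToSheaf J (Type u)) := inferInstance
    have h5 : (presheafToSheaf J (Type u)).PreservesMonomorphisms := inferInstance
    exact (presheafToSheaf J (Type u)).map_mono S.functorInclusion
  let s : (ZZ (J := J)).obj K₁ ⟶ A :=
    (homEquivR K₁.obj A).symm ((sheafifyHomEquiv J S.functor A).symm σ)
  obtain ⟨φ, hφ⟩ := exists_extension_of_mono A hA ι s
  let φ' : K₂.obj ⟶ A.obj ⋙ forget AddCommGrpCat.{u} := homEquivR K₂.obj A φ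
  have h1 : ι.hom ≫ φ' = (sheafifyHomEquiv J S.functor A).symm σ := by
    have e1 := homEquivR_naturality_left ι.hom A φ
    have e2 : homEquivR K₁.obj A ((ZZ (J := J)).map ι ≫ φ) =
        (sheafifyHomEquiv J S.functor A).symm σ := by
      rw [hφ]
      exact Equiv.apply_symm_apply _ _
    exact e1.symm.trans e2
  let ψ : yoneda.obj V ⟶ A.obj ⋙ forget AddCommGrpCat.{u} :=
    toSheafify J (yoneda.obj V) ≫ φ'
  have h2 : S.functorInclusion ≫ ψ = σ := by
    have e3 := congrArg (sheafifyHomEquiv J S.functor A) h1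
    rw [Equiv.apply_symm_apply, sheafifyHomEquiv_apply] at e3
    rw [← e3]
    have e4 : S.functorInclusion ≫ toSheafify J (yoneda.obj V) =
        toSheafify J S.functor ≫ ι.hom := toSheafify_naturality J S.functorInclusion
    change S.functorInclusion ≫ toSheafify J (yoneda.obj V) ≫ φ' = _
    rw [← Category.assoc, e4, Category.assoc]
  refine ⟨ψ.app (op V) (𝟙 V), fun W h hh => ?_⟩
  have e5 : ψ.app (op W) (h ≫ 𝟙 V) =
      (A.obj ⋙ forget AddCommGrpCat.{u}).map h.op (ψ.app (op V) (𝟙 V)) :=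
    NatTrans.naturality_apply ψ h.op (𝟙 V)
  rw [Category.comp_id] at e5
  have e6 := congrArg
    (fun τ : S.functor ⟶ A.obj ⋙ forget AddCommGrpCat.{u} => τ.app (op W) ⟨h, hh⟩) h2
  exact e5.symm.trans e6

end Groth.Agent.LD.HZF
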