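import Mathlib
import Groth.Agent.Lib.Lead.HZF.Char
import Groth.Agent.Lib.Lead.HZF.Ext

/-! # Sections with support and short exact sequences with totally acyclic kernel. -/

set_option autoImplicit false
universe u
open CategoryTheory Limits Opposite

namespace Groth.Agent.LD.HZF
open ModSite Groth.Agent.LD.EZ Groth.Agent.LD.RSp Groth.Agent.LD.RSp.TA

variable {C : Type u} [SmallCategory C] {J : GrothendieckTopology C}
  (O : Sheaf J CommRingCat.{u}) (U : C)

/-- the sieve of arrows whose source maps to `U`. -/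
def sieveTo (W : C) : Sieve W where
  arrows W' _ := Nonempty (W' ⟶ U)
  downward_closed := by
    rintro W' W'' h ⟨t⟩ k
    exact ⟨k ≫ t⟩

variable [HasPushOver O U]

/-- **key lemma**: sections with support preserve an epimorphism whose kernel has a totally
acyclic underlying abelian sheaf. -/
theorem epi_sectOn_map {S : ShortComplex (Mod O)} (hS : S.ShortExact)
    (hM : CohCx.IsTotallyAcyclic (toAb S.X₁)) : Epi ((sectOn O U).map S.g) := by
  haveI := hS.mono_f
  haveI := hS.epi_g
  apply epi_of_exists_sieve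
  intro V s
  obtain ⟨R, hR, hR'⟩ := exists_sieve_of_epi S.g V ((iotaU O U S.X₃).val.app (op V) s)
  refine ⟨R, hR, fun W g hg => ?_⟩
  obtain ⟨t, ht⟩ := hR' g hg
  have ht' : S.g.val.app (op W) t =
      (iotaU O U S.X₃).val.app (op W) (rs ((sectOn O U).obj S.X₃) g s) := by
    rw [ht, app_rs]
  have hfam : ∀ ⦃W' : C⦄ (h : W' ⟶ W), sieveTo U W h →
      ∃ a : S.X₁.val.obj (op W'), S.f.val.app (op W') a = rs S.X₂ h t := by
    intro W' h hh
    obtain ⟨u⟩ := hh
    apply exists_of_exact hS.exact W' (rs S.X₂ h t)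
    rw [app_rs, ht', rs_iota_eq_zero O U S.X₃ h u]
  choose mf hmf using hfam
  have hinj : ∀ W' : C, Function.Injective (S.f.val.app (op W')) :=
    fun W' => injective_of_mono S.f W'
  obtain ⟨a, ha⟩ := exists_section_of_family (toAb S.X₁) hM W (sieveTo U W)
    (fun W' h hh => mf h hh) (by
      intro W' W'' h hh k
      apply hinj W''
      show S.f.val.app (op W'') (rs S.X₁ k (mf h hh)) = S.f.val.app (op W'') (mf (k ≫ h) _)
      rw [app_rs, hmf, hmf, rs_rs])
  let a' : S.X₁.val.obj (op W) := a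
  let t₁ : S.X₂.val.obj (op W) := t - S.f.val.app (op W) a'
  have ht₁ : ∀ (W' : C) (h : W' ⟶ W), Nonempty (W' ⟶ U) → rs S.X₂ h t₁ = 0 := by
    intro W' h hh
    have e1 : rs S.X₁ h a' = mf h hh := ha h hh
    show rs S.X₂ h (t - S.f.val.app (op W) a') = 0
    rw [rs_sub, ← app_rs, e1, hmf, sub_self]
  obtain ⟨y, hy⟩ := exists_iota_eq O U S.X₂ W t₁ ht₁
  refine ⟨y, ?_⟩
  apply injective_of_mono (iotaU O U S.X₃) W
  have e2 : (iotaU O U S.X₃).val.app (op W) (((sectOn O U).map S.g).val.app (op W) y) =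
      S.g.val.app (op W) ((iotaU O U S.X₂).val.app (op W) y) :=
    congrArg (fun ψ : (sectOn O U).obj S.X₂ ⟶ S.X₃ => ψ.val.app (op W) y)
      (iotaU_naturality O U S.g)
  rw [e2, hy]
  show S.g.val.app (op W) (t - S.f.val.app (op W) a') = _
  have e3 : S.g.val.app (op W) (S.f.val.app (op W) a') = 0 :=
    congrArg (fun ψ : S.X₁ ⟶ S.X₃ => ψ.val.app (op W) a') S.zero
  rw [map_sub, e3, sub_zero, ht']

end Groth.Agent.LD.HZF
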