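import Mathlib
import Groth.Agent.Lib.Lead.HZF.Epi
import Groth.Agent.Lib.Lead.PE.Shift
import Groth.Agent.Lib.Lead.RP.ToAb
import Groth.Agent.Lib.Lead.KT.ExtZSh
import Groth.Agent.Lib.Helper8.LC.Delta

/-! # Modules with totally acyclic underlying abelian sheaf are acyclic for sections with
support (S12891). -/

set_option autoImplicit false
universe u
open CategoryTheory Limits Opposite Abelian

namespace Groth.Agent.LD.HZF
open ModSite Groth.Agent.LD.EZ Groth.Agent.LD.KT Groth.Agent.H2.RDer Groth.Agent.H8.LC
  Groth.Agent.H8.LC.DeltaFunctor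

variable {C : Type u} [SmallCategory C] {J : GrothendieckTopology C}

/-- enough injectives from injective resolutions. -/
lemma enoughInjectives' (A : Type*) [Category A] [Abelian A]
    [HasInjectiveResolutions A] : EnoughInjectives A :=
  ⟨fun X => ⟨⟨(injectiveResolution X).cocomplex.X 0, inferInstance,
    (HomologicalComplex.singleObjXSelf (ComplexShape.up ℕ) 0 X).inv ≫
      (injectiveResolution X).ι.f 0, inferInstance⟩⟩⟩

/-- the cokernel of a monomorphism of totally acyclic sheaves is totally acyclic. -/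
theorem isTotallyAcyclic_X₃ {S : ShortComplex (Sheaf J AddCommGrpCat.{u})} (hS : S.ShortExact)
    (h₁ : CohCx.IsTotallyAcyclic S.X₁) (h₂ : CohCx.IsTotallyAcyclic S.X₂) :
    CohCx.IsTotallyAcyclic S.X₃ := by
  intro K p
  have h0 : ∀ x : CohCx.HK K S.X₃ (p + 1), x = 0 := by
    intro x
    haveI := h₁ K (p + 1)
    haveI := h₂ K p
    obtain ⟨x₂, hx₂⟩ := Ext.covariant_sequence_exact₃ _ hS x rfl (Subsingleton.elim _ _)
    rw [← hx₂, Subsingleton.elim x₂ 0, Ext.zero_comp]
  exact ⟨fun a b => (h0 a).trans (h0 b).symm⟩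

variable (O : Sheaf J CommRingCat.{u})

/-- the same for modules. -/
theorem isTotallyAcyclic_toAb_X₃ {S : ShortComplex (Mod O)} (hS : S.ShortExact)
    (h₁ : CohCx.IsTotallyAcyclic (toAb S.X₁)) (h₂ : CohCx.IsTotallyAcyclic (toAb S.X₂)) :
    CohCx.IsTotallyAcyclic (toAb S.X₃) := by
  haveI : PreservesFiniteColimits (SheafOfModules.toSheaf.{u} (ringSh O)) :=
    PreservesColimitsOfSize.preservesFiniteColimits _
  haveI : PreservesLimitsOfSize.{u, u} (SheafOfModules.toSheaf.{u} (ringSh O)) :=
    (Ladj (ringSh O)).rightAdjoint_preservesLimits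
  haveI : PreservesFiniteLimits (SheafOfModules.toSheaf.{u} (ringSh O)) :=
    PreservesLimitsOfSize.preservesFiniteLimits _
  exact isTotallyAcyclic_X₃ (hS.map_of_exact (SheafOfModules.toSheaf (ringSh O))) h₁ h₂

variable (U : C) [HasPushOver O U]

/-- sections with support are left exact. -/
lemma preservesFiniteLimits_sectOn : PreservesFiniteLimits (sectOn O U) := by
  haveI : PreservesLimitsOfSize.{0, 0} (sectOn O U) :=
    (quotSectAdj O U).rightAdjoint_preservesLimits
  exact PreservesLimitsOfSize.preservesFiniteLimits _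

variable [HasInjectiveResolutions (Mod O)]

/-- **S12891, first half**: modules with totally acyclic underlying abelian sheaf are acyclic
for sections with support. -/
theorem isZero_HZsh_of_isTotallyAcyclic : ∀ (q : ℕ) (M : Mod O),
    CohCx.IsTotallyAcyclic (toAb M) → IsZero ((HZsh O U (q + 1)).obj M) := by
  haveI := enoughInjectives' (Mod O)
  haveI := preservesFiniteLimits_sectOn O U
  intro q
  induction q with
  | zero =>
    intro M hM
    have hS : (sesUnder M).ShortExact := sesUnder_shortExact M
    haveI : Epi ((sectOn O U).map (sesUnder M).g) := epi_sectOn_map O U hS hM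
    haveI : Epi (((sectOn O U).rightDerived 0).map (sesUnder M).g) := by
      have hn := (sectOn O U).rightDerivedZeroIsoSelf.hom.naturality (sesUnder M).g
      have h : ((sectOn O U).rightDerived 0).map (sesUnder M).g =
          (sectOn O U).rightDerivedZeroIsoSelf.hom.app (sesUnder M).X₂ ≫
            (sectOn O U).map (sesUnder M).g ≫
              (sectOn O U).rightDerivedZeroIsoSelf.inv.app (sesUnder M).X₃ := by
        rw [← Category.assoc, ← hn, Category.assoc, Iso.hom_inv_id_app, Category.comp_id]
      rw [h]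
      haveI h5 : IsIso ((sectOn O U).rightDerivedZeroIsoSelf.inv.app (sesUnder M).X₃) :=
        inferInstance
      haveI h6 : IsIso ((sectOn O U).rightDerivedZeroIsoSelf.hom.app (sesUnder M).X₂) :=
        inferInstance
      haveI h7 : Epi ((sectOn O U).map (sesUnder M).g ≫
          (sectOn O U).rightDerivedZeroIsoSelf.inv.app (sesUnder M).X₃) := epi_comp _ _
      exact epi_comp _ _
    have e3 := LES.exact₃ (sectOn O U) hS 0
    have e1 := LES.exact₁ (sectOn O U) hS 0
    have hδ0 : LES.δ (sectOn O U) hS 0 = 0 := (e3.epi_f_iff).1 inferInstance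
    haveI : Epi (LES.δ (sectOn O U) hS 0) := (e1.epi_f_iff).2
      (((sectOn O U).isZero_rightDerived_obj_injective_succ 0 (sesUnder M).X₂).eq_of_tgt _ _)
    exact IsZero.of_epi_eq_zero _ hδ0
  | succ q ih =>
    intro M hM
    have hS : (sesUnder M).ShortExact := sesUnder_shortExact M
    have hN : CohCx.IsTotallyAcyclic (toAb (sesUnder M).X₃) :=
      isTotallyAcyclic_toAb_X₃ O hS hM
        (Groth.Agent.LD.RP.isTotallyAcyclic_toAb_of_injective O (sesUnder M).X₂)
    have e1 := LES.exact₁ (sectOn O U) hS (q + 1)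
    haveI : Epi (LES.δ (sectOn O U) hS (q + 1)) := (e1.epi_f_iff).2
      (((sectOn O U).isZero_rightDerived_obj_injective_succ (q + 1)
        (sesUnder M).X₂).eq_of_tgt _ _)
    exact IsZero.of_epi (LES.δ (sectOn O U) hS (q + 1)) (ih (sesUnder M).X₃ hN)

/-- **S12891, second half**. -/
theorem subsingleton_HZ (M : Mod O) (hM : CohCx.IsTotallyAcyclic (toAb M)) (k : ℕ) :
    Subsingleton (ModSite.HZ U M (k + 1)) := by
  change Subsingleton (Ext.{u} (ToposFin.quotZ (ToposFin.eps J U)) (toAb M) (k + 1))
  exact subsingleton_ext_quotZ (toAb M) hM (ToposFin.eps J U) k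

end Groth.Agent.LD.HZF
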