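import Mathlib
import Groth.Agent.Lib.Lead.HZF.Shift
import Groth.Agent.Lib.Helper8.LC.RDerIso
import Groth.Agent.Lib.Helper8.LC.Comp
import Groth.Agent.Lib.Helper8.RDerNat.LES
import Groth.Agent.Lib.Lead.EZ.PostcompNat

/-! # Local cohomology sheaves commute with restriction of scalars (S12892). -/

set_option autoImplicit false
universe v v' u u'
open CategoryTheory Limits Opposite Abelian

namespace Groth.Agent.LD.HZF
open ModSite Groth.Agent.LD.EZ Groth.Agent.LD.KT Groth.Agent.H8.LC Groth.Agent.LD.RSp

section Abstract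

variable {A : Type u} [Category.{v} A] [Abelian A] [EnoughInjectives A]
  {B : Type u'} [Category.{v'} B] [Abelian B] (F : A ⥤ B) [F.Additive]

/-- the right derived functors of an additive functor, as a δ-functor. -/
noncomputable def rdDelta : DeltaFunctor A B where
  F n := F.rightDerived n
  δ {S} hS n := (Groth.Agent.H8.RDerNat.derivedLES F).δ S hS n (n + 1) rfl
  δ_naturality hS hS' φ n :=
    ((Groth.Agent.H8.RDerNat.derivedLES F).δ_natural hS hS' φ n (n + 1) rfl).symm
  map_comp_map {S} hS n := by rw [← Functor.map_comp, S.zero, Functor.map_zero]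
  map_comp_δ {S} hS n := (Groth.Agent.H8.RDerNat.derivedLES F).comp_δ S hS n (n + 1) rfl
  δ_comp_map {S} hS n := (Groth.Agent.H8.RDerNat.derivedLES F).δ_comp S hS n (n + 1) rfl
  mono₀ hS := Groth.Agent.H2.RDer.LES.mono_zero F hS
  exact₂ {S} hS n := (Groth.Agent.H8.RDerNat.derivedLES F).exact₂ S hS n
  exact₃ {S} hS n := (Groth.Agent.H8.RDerNat.derivedLES F).exact₃ S hS n (n + 1) rfl
  exact₁ {S} hS n := (Groth.Agent.H8.RDerNat.derivedLES F).exact₁ S hS n (n + 1) rfl

end Abstract

section Res

universe w
variable {C : Type w} [SmallCategory C] {J : GrothendieckTopology C}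
  {O O' : Sheaf J CommRingCat.{w}} (φ : O ⟶ O')

/-- restriction of scalars along `φ`. -/
noncomputable abbrev resF : Mod O' ⥤ Mod O :=
  SheafOfModules.restrictScalars
    ((sheafCompose J (forget₂ CommRingCat.{w} RingCat.{w})).map φ)

/-- restriction of scalars does not change the underlying abelian sheaf. -/
noncomputable def resCompToSheaf :
    resF φ ⋙ SheafOfModules.toSheaf (ringSh O) ≅ SheafOfModules.toSheaf (ringSh O') :=
  Iso.refl _

lemma preservesFiniteLimits_toSheaf (O : Sheaf J CommRingCat.{w}) :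
    PreservesFiniteLimits (SheafOfModules.toSheaf.{w} (ringSh O)) := by
  haveI : PreservesLimitsOfSize.{w, w} (SheafOfModules.toSheaf.{w} (ringSh O)) :=
    (Ladj (ringSh O)).rightAdjoint_preservesLimits
  exact PreservesLimitsOfSize.preservesFiniteLimits _

lemma preservesFiniteColimits_toSheaf (O : Sheaf J CommRingCat.{w}) :
    PreservesFiniteColimits (SheafOfModules.toSheaf.{w} (ringSh O)) :=
  PreservesColimitsOfSize.preservesFiniteColimits _

instance preservesFiniteLimits_resF : PreservesFiniteLimits (resF φ) := by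
  haveI := preservesFiniteLimits_toSheaf O
  haveI := preservesFiniteLimits_toSheaf O'
  haveI : PreservesFiniteLimits (resF φ ⋙ SheafOfModules.toSheaf (ringSh O)) :=
    preservesFiniteLimits_of_natIso (resCompToSheaf φ).symm
  constructor
  intro K _ _
  haveI : ReflectsLimitsOfShape K (SheafOfModules.toSheaf.{w} (ringSh O)) :=
    reflectsLimitsOfShape_of_reflectsIsomorphisms
  exact preservesLimitsOfShape_of_reflects_of_preserves (resF φ)
    (SheafOfModules.toSheaf (ringSh O))

instance preservesFiniteColimits_resF : PreservesFiniteColimits (resF φ) := by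
  haveI := preservesFiniteColimits_toSheaf O
  haveI := preservesFiniteColimits_toSheaf O'
  haveI : PreservesFiniteColimits (resF φ ⋙ SheafOfModules.toSheaf (ringSh O)) :=
    preservesFiniteColimits_of_natIso (resCompToSheaf φ).symm
  constructor
  intro K _ _
  haveI : ReflectsColimitsOfShape K (SheafOfModules.toSheaf.{w} (ringSh O)) :=
    reflectsColimitsOfShape_of_reflectsIsomorphisms
  exact preservesColimitsOfShape_of_reflects_of_preserves (resF φ)
    (SheafOfModules.toSheaf (ringSh O))

variable (U : C)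

lemma isNullOn_res (T : Mod O') (hT : IsNullOn O' U T) : IsNullOn O U ((resF φ).obj T) :=
  (ExtSupp.isNullOn_iff O U _).2 (fun V t x => (ExtSupp.isNullOn_iff O' U T).1 hT t x)

variable [HasPushOver O U] [HasPushOver O' U]

/-- the comparison `Γ_Z(M)|_O ⟶ Γ_Z(M|_O)`. -/
noncomputable def alphaR (M : Mod O') :
    (resF φ).obj ((sectOn O' U).obj M) ⟶ (sectOn O U).obj ((resF φ).obj M) :=
  toSect O U ((resF φ).map (iotaU O' U M)) (by
    rw [comp_unit_eq_zero_iff]
    exact (isNullOn_res φ U _ (isNullOn_sectOn O' U M)).eq_of_src _ _)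

lemma alphaR_iota (M : Mod O') :
    alphaR φ U M ≫ iotaU O U ((resF φ).obj M) = (resF φ).map (iotaU O' U M) :=
  toSect_iotaU _ _ _ _

instance isIso_alphaR (M : Mod O') : IsIso (alphaR φ U M) := by
  haveI : Mono ((resF φ).map (iotaU O' U M)) := inferInstance
  haveI : Mono (alphaR φ U M) := mono_of_mono_fac (alphaR_iota φ U M)
  haveI : Epi (alphaR φ U M) := by
    apply epi_of_exists_sieve
    intro V y
    refine ⟨⊤, J.top_mem V, fun W g _ => ?_⟩
    let y' := rs ((sectOn O U).obj ((resF φ).obj M)) g y
    let x : M.val.obj (op W) := (iotaU O U ((resF φ).obj M)).val.app (op W) y'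
    have hx : ∀ (W' : C) (h : W' ⟶ W), Nonempty (W' ⟶ U) → rs M h x = 0 := by
      rintro W' h ⟨t⟩
      exact rs_iota_eq_zero O U ((resF φ).obj M) h t y'
    obtain ⟨z, hz⟩ := exists_iota_eq O' U M W x hx
    refine ⟨z, ?_⟩
    apply injective_of_mono (iotaU O U ((resF φ).obj M)) W
    have e := congrArg (fun ψ : (resF φ).obj ((sectOn O' U).obj M) ⟶ (resF φ).obj M =>
      ψ.val.app (op W) z) (alphaR_iota φ U M)
    exact e.trans hz
  exact isIso_of_mono_of_epi _

/-- **sections with support commute with restriction of scalars.** -/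
noncomputable def sectResIso : sectOn O' U ⋙ resF φ ≅ resF φ ⋙ sectOn O U :=
  NatIso.ofComponents (fun M => asIso (alphaR φ U M)) (by
    intro M M' m
    change (resF φ).map ((sectOn O' U).map m) ≫ alphaR φ U M' =
      alphaR φ U M ≫ (sectOn O U).map ((resF φ).map m)
    have e1 : (resF φ).map ((sectOn O' U).map m) ≫ (resF φ).map (iotaU O' U M') =
        (resF φ).map (iotaU O' U M) ≫ (resF φ).map m := by
      rw [← Functor.map_comp, ← Functor.map_comp, iotaU_naturality]
    have e2 := iotaU_naturality O U ((resF φ).map m)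
    rw [← cancel_mono (iotaU O U ((resF φ).obj M')), Category.assoc, Category.assoc,
      alphaR_iota φ U M', e1, e2, ← Category.assoc, alphaR_iota φ U M])

variable [HasInjectiveResolutions (Mod O)] [HasInjectiveResolutions (Mod O')]

/-- **S12892**. -/
theorem nonempty_HZsh_res_iso (q : ℕ) :
    Nonempty (HZsh O' U q ⋙ resF φ ≅ resF φ ⋙ HZsh O U q) := by
  haveI := enoughInjectives' (Mod O)
  haveI := enoughInjectives' (Mod O')
  haveI := preservesFiniteLimits_sectOn O U
  let T : DeltaFunctor (Mod O') (Mod O) := (rdDelta (sectOn O U)).precomp (resF φ)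
  have hT : T.Effaceable := by
    intro I _ n
    exact isZero_HZsh_of_isTotallyAcyclic O U n ((resF φ).obj I)
      (Groth.Agent.LD.RP.isTotallyAcyclic_toAb_of_injective O' I)
  haveI : (T.F 0).Additive :=
    inferInstanceAs (resF φ ⋙ (sectOn O U).rightDerived 0).Additive
  let e0 : sectOn O' U ⋙ resF φ ≅ T.F 0 :=
    sectResIso φ U ≪≫ Functor.isoWhiskerLeft (resF φ) (sectOn O U).rightDerivedZeroIsoSelf.symm
  exact ⟨(rightDerivedPostcompNatIso (sectOn O' U) (resF φ) q).symm ≪≫
    DeltaFunctor.rightDerivedIso T hT (sectOn O' U ⋙ resF φ) e0 q⟩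

end Res

end Groth.Agent.LD.HZF
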